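import Groth.Agent.Lib.AffGrp19.AntiAff
import Groth.Agent.Lib.ActGrpd19.Basic
import Groth.Agent.Lib.GrpdDense19.Main
import Groth.Agent.Lib.BorelFix21.Stabilizer
import Groth.Agent.Lib.QuotFlat20.Basic
import Groth.Agent.S6084

/-!
# Anti-affine groups are smooth
-/

universe u

set_option autoImplicit false
set_option linter.style.haveILetI false
set_option backward.isDefEq.respectTransparency.types false

open CategoryTheory CategoryTheory.Limits MonoidalCategory CartesianMonoidalCategory MonObj AlgebraicGeometry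
open Opposite

noncomputable section

namespace Groth.Agent.AntiAff20

variable {k : Type u} [Field k]

/-- Over a perfect field an anti-affine group is reduced. -/
theorem isReduced_of_antiAffine [PerfectField k] (N : Over (Spec (CommRingCat.of k))) [GrpObj N]
    [LocallyOfFiniteType N.hom] [QuasiCompact N.hom]
    (hO : Function.Bijective (AffGrp19.structRing N).hom) : IsReduced N.left := by
  obtain ⟨F, hF, u, hu, hci, hsurj, hred, -⟩ := BorelFix21.exists_reduced_subgroup N
  haveI := hu; haveI := hci; haveI := hsurj; haveI := hred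
  haveI : IsNoetherianRing (CommRingCat.of k) := inferInstanceAs (IsNoetherianRing k)
  haveI : AlgebraicGeometry.IsNoetherian (Spec (CommRingCat.of k)) := {}
  haveI : QuasiSeparated N.hom := AlgGrpBasic19.quasiSeparatedSpace
  haveI : LocallyOfFiniteType F.hom := by rw [← Over.w u]; infer_instance
  haveI : QuasiCompact F.hom := by rw [← Over.w u]; infer_instance
  haveI : Mono u.left := inferInstance
  haveI : Mono u := Over.mono_of_mono_left u
  let a := QuotFlat20.leftAction u
  let G := ActGrpd19.actGrpd a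
  have hsq : IsPullback (snd F N).left (fst F N).left N.hom F.hom := (IsPullback.of_hasPullback F.hom N.hom).flip
  haveI : Flat G.s := MorphismProperty.of_isPullback hsq.flip (inferInstance : Flat F.hom)
  haveI : LocallyOfFiniteType G.s := MorphismProperty.of_isPullback hsq.flip ‹LocallyOfFiniteType F.hom›
  haveI : QuasiCompact G.s := MorphismProperty.of_isPullback hsq.flip ‹QuasiCompact F.hom›
  haveI : LocallyOfFiniteType G.pU := ‹LocallyOfFiniteType N.hom›
  haveI : QuasiCompact G.pU := ‹QuasiCompact N.hom›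
  haveI hmono : Mono G.j := by
    rw [ActGrpd19.j_eq]
    haveI : Mono (lift a.act (snd F N)) := ⟨fun {T} x y h => by
      have h1 := congrArg (· ≫ fst _ _) h
      have h2 := congrArg (· ≫ snd _ _) h
      simp only [Category.assoc, lift_fst, lift_snd] at h1 h2
      simp only [a, QuotFlat20.leftAction, MonObj.comp_mul, h2, mul_left_inj, ← Category.assoc] at h1
      apply CartesianMonoidalCategory.hom_ext
      · exact (cancel_mono u).1 h1
      · exact h2⟩
    exact Over.mono_left_of_mono _
  haveI : LocallyOfFiniteType G.j := by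
    rw [ActGrpd19.j_eq]
    haveI : LocallyOfFiniteType ((lift a.act (snd F N)).left ≫ (N ⊗ N).hom) := by
      rw [Over.w, ← Over.w (snd F N)]
      exact MorphismProperty.comp_mem _ _ _ (inferInstance : LocallyOfFiniteType G.s) ‹LocallyOfFiniteType N.hom›
    exact @locallyOfFiniteType_of_comp _ _ _ _ _ this
  haveI : LocallyQuasiFinite G.j := inferInstance
  obtain ⟨W, hW, hdense, V, p, w, q, -, hq, hps, -, hpfp, -, -, -, -, hmon⟩ := GrpdDense19.exists_quotient G
  obtain ⟨hpb, hpf⟩ := hmon hmono
  -- the saturated open is everything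
  have htop : W = ⊤ := by
    refine eq_top_iff.2 fun x _ => ?_
    haveI : Nonempty G.U := ⟨η[N].left (IsLocalRing.closedPoint k)⟩
    obtain ⟨y, hy⟩ := hdense.nonempty
    let sh : N ⊗ N ≅ N ⊗ N :=
      { hom := lift (fst N N * snd N N) (snd N N)
        inv := lift (fst N N * (snd N N)⁻¹) (snd N N)
        hom_inv_id := by apply CartesianMonoidalCategory.hom_ext <;> simp [MonObj.comp_mul, GrpObj.comp_inv]
        inv_hom_id := by apply CartesianMonoidalCategory.hom_ext <;> simp [MonObj.comp_mul, GrpObj.comp_inv] }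
    obtain ⟨z, hz1, hz2⟩ := AbRigid.exists_point N N y x
    haveI : Surjective (u ▷ N).left :=
      MorphismProperty.of_isPullback (P := @Surjective) (GITQuot.isPullback_whiskerRight u N).flip hsurj
    obtain ⟨r, hr⟩ := (u ▷ N).left.surjective (sh.inv.left z)
    have hact : a.act = (u ▷ N) ≫ sh.hom ≫ fst N N := by
      simp [a, QuotFlat20.leftAction, sh, MonObj.comp_mul]
    have h1 : G.t r = y := by
      show a.act.left r = y
      rw [hact, AbRigid.left_comp_apply, hr, ← AbRigid.left_comp_apply, Iso.inv_hom_id_assoc]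
      exact hz1
    have h2 : G.s r = x := by
      show (snd F N).left r = x
      rw [← whiskerRight_snd u N, AbRigid.left_comp_apply, hr, ← AbRigid.left_comp_apply,
        show sh.inv ≫ snd N N = snd N N from lift_snd _ _]
      exact hz2
    have : r ∈ G.t ⁻¹ᵁ W := by show G.t r ∈ W; rw [h1]; exact hy
    rw [hW] at this
    rw [← h2]
    exact this
  subst htop
  haveI : IsIso ((⊤ : G.U.Opens).ι) := inferInstanceAs (IsIso (Scheme.topIso G.U).hom)
  haveI : IsIso (G.s ⁻¹ᵁ (⊤ : G.U.Opens)).ι := inferInstanceAs (IsIso (Scheme.topIso G.R).hom)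
  let X : Over (Spec (CommRingCat.of k)) := Over.mk q
  let e : G.U ⟶ ((⊤ : G.U.Opens) : Scheme.{u}) := inv (⊤ : G.U.Opens).ι
  let pX : N ⟶ X := Over.homMk (e ≫ p) (by
    show (e ≫ p) ≫ q = N.hom
    rw [Category.assoc, hq]
    exact IsIso.inv_hom_id_assoc (⊤ : G.U.Opens).ι G.pU)
  have hp : IsPullback ((u ▷ N) ≫ μ[N]) (snd F N) pX pX := by
    have hact : a.act = (u ▷ N) ≫ μ[N] := by
      simp [a, QuotFlat20.leftAction, MonObj.mul_eq_mul, MonObj.comp_mul]
    let eR : ((G.s ⁻¹ᵁ (⊤ : G.U.Opens)) : Scheme.{u}) ≅ G.R := Scheme.topIso G.R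
    let eU : ((⊤ : G.U.Opens) : Scheme.{u}) ≅ G.U := Scheme.topIso G.U
    have he : e = eU.inv := by
      rw [← cancel_mono (⊤ : G.U.Opens).ι]
      exact (IsIso.inv_hom_id _).trans eU.inv_hom_id.symm
    have c1 : G.t.resLE ⊤ (G.s ⁻¹ᵁ ⊤) hW.ge ≫ eU.hom = eR.hom ≫ G.t := Scheme.Hom.resLE_comp_ι _ _
    have c2 : (G.s ∣_ (⊤ : G.U.Opens)) ≫ eU.hom = eR.hom ≫ G.s := morphismRestrict_ι _ _
    have sq : IsPullback G.t G.s (e ≫ p) (e ≫ p) :=
      hpb.of_iso eR eU eU (Iso.refl _) c1 c2 (by rw [he]; simp) (by rw [he]; simp)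
    have et : G.t = ((u ▷ N) ≫ μ[N]).left := congrArg CommaMorphism.left hact
    rw [et] at sq
    exact IsPullback.of_map (Over.forget _) (Over.OverMorphism.ext sq.w) sq
  haveI := hps; haveI := hpf; haveI := hpfp
  haveI : Flat pX.left := inferInstanceAs (Flat (e ≫ p))
  haveI : Surjective pX.left := inferInstanceAs (Surjective (e ≫ p))
  haveI : LocallyOfFinitePresentation pX.left := inferInstanceAs (LocallyOfFinitePresentation (e ≫ p))
  haveI : IsAffine X.left := (S6084.result k F N u X pX hp).1
  obtain ⟨c, hc⟩ := AffGrp19.exists_const hO pX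
  -- the unit coset is everything
  have hfac : (𝟙 N) ≫ pX = (toUnit N ≫ η[N]) ≫ pX := by
    rw [Category.id_comp, hc, ← Category.assoc]
    exact congrArg (· ≫ c) (toUnit_unique _ _)
  obtain ⟨r, hr1, hr2⟩ := hp.exists_lift (𝟙 N) (toUnit N ≫ η[N]) hfac
  have hsec : (r ≫ fst F N) ≫ u = 𝟙 N := by
    have h1 : r ≫ ((u ▷ N) ≫ μ[N]) = ((r ≫ fst F N) ≫ u) * (r ≫ snd F N) := by
      simp [MonObj.mul_eq_mul, MonObj.comp_mul]
    rw [hr1, hr2, ← Hom.one_def, _root_.mul_one] at h1
    exact h1.symm
  haveI : IsSplitEpi u := IsSplitEpi.mk' ⟨r ≫ fst F N, hsec⟩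
  haveI : IsIso u := isIso_of_mono_of_isSplitEpi u
  haveI : IsIso u.left := inferInstanceAs (IsIso ((Over.forget _).map u))
  exact isReduced_of_isOpenImmersion (inv u.left)

/-- An anti-affine group is smooth. -/
theorem smooth_of_antiAffine (N : Over (Spec (CommRingCat.of k))) [GrpObj N]
    [LocallyOfFiniteType N.hom] [QuasiCompact N.hom]
    (hO : Function.Bijective (AffGrp19.structRing N).hom) : Smooth N.hom := by
  let L := AlgebraicClosure k
  let φ : Spec (CommRingCat.of L) ⟶ Spec (CommRingCat.of k) := Spec.map (CommRingCat.ofHom (algebraMap k L))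
  let N' := (Over.pullback φ).obj N
  letI : GrpObj N' := Functor.grpObjObj
  haveI : LocallyOfFiniteType N'.hom := inferInstanceAs (LocallyOfFiniteType (pullback.snd N.hom φ))
  haveI : QuasiCompact N'.hom := inferInstanceAs (QuasiCompact (pullback.snd N.hom φ))
  haveI : QuasiSeparated N.hom := AlgGrpBasic19.quasiSeparatedSpace
  haveI : IsIso N.hom.appTop := by
    have h : IsIso (AffGrp19.structRing N) := (ConcreteCategory.isIso_iff_bijective _).mpr hO
    exact IsIso.of_isIso_comp_left (Scheme.ΓSpecIso (CommRingCat.of k)).inv N.hom.appTop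
  have hbij : ∀ U : (Spec (CommRingCat.of k)).Opens, Function.Bijective (N.hom.app U) := by
    intro U
    haveI : Subsingleton (Spec (CommRingCat.of k)) := inferInstanceAs (Subsingleton (PrimeSpectrum k))
    have hbt : U = ⊥ ∨ U = ⊤ := by
      by_cases hc : (IsLocalRing.closedPoint k : Spec (CommRingCat.of k)) ∈ U
      · exact Or.inr (eq_top_iff.2 fun y _ => Subsingleton.elim (IsLocalRing.closedPoint k : Spec (CommRingCat.of k)) y ▸ hc)
      · exact Or.inl (eq_bot_iff.2 fun y hy => absurd ((Subsingleton.elim y (IsLocalRing.closedPoint k : Spec (CommRingCat.of k))) ▸ hy) hc)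
    rcases hbt with h | h
    · subst h
      haveI h1 : Subsingleton Γ(Spec (CommRingCat.of k), ⊥) :=
        CommRingCat.subsingleton_of_isTerminal (Spec (CommRingCat.of k)).sheaf.isTerminalOfEmpty
      haveI h2 : Subsingleton Γ(N.left, N.hom ⁻¹ᵁ ⊥) :=
        CommRingCat.subsingleton_of_isTerminal N.left.sheaf.isTerminalOfEmpty
      exact ⟨fun a b _ => Subsingleton.elim a b, fun b => ⟨0, Subsingleton.elim _ _⟩⟩
    · subst h
      exact ConcreteCategory.bijective_of_isIso N.hom.appTop
  have hO' : Function.Bijective (AffGrp19.structRing N').hom := by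
    have h1 := Blanchard19.bijective_app_of_isPullback (IsPullback.of_hasPullback N.hom φ) hbij ⊤
    rw [show (AffGrp19.structRing N').hom = N'.hom.appTop.hom.comp (Scheme.ΓSpecIso (CommRingCat.of L)).inv.hom from rfl]
    show Function.Bijective (⇑(pullback.snd N.hom φ).appTop.hom ∘ ⇑(Scheme.ΓSpecIso (CommRingCat.of L)).inv.hom)
    exact Function.Bijective.comp h1 (ConcreteCategory.bijective_of_isIso (Scheme.ΓSpecIso (CommRingCat.of L)).inv)
  haveI : IsReduced (pullback N.hom φ) := isReduced_of_antiAffine N' hO'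
  exact GrpSmooth19.smooth_of_isReduced_baseChange N L

end Groth.Agent.AntiAff20
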