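import Groth.Agent.Lib.AntiAff20.Hull
import Groth.Agent.Lib.AffGrp19.AntiAff

/-!
# The kernel of the affinization is anti-affine
-/

universe u

set_option autoImplicit false
set_option linter.style.haveILetI false
set_option backward.isDefEq.respectTransparency.types false

open CategoryTheory CategoryTheory.Limits MonoidalCategory CartesianMonoidalCategory MonObj AlgebraicGeometry

noncomputable section

namespace Groth.Agent.AntiAff20

variable {k : Type u} [Field k] (G : Over (Spec (CommRingCat.of k))) [GrpObj G]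
  [LocallyOfFiniteType G.hom] [QuasiCompact G.hom]

theorem surjective_flat_toAff : Surjective (AffGrp19.toAff G).left ∧ Flat (AffGrp19.toAff G).left := by
  haveI : QuasiSeparated G.hom := AlgGrpBasic19.quasiSeparatedSpace
  obtain ⟨A, cA, hA, e, m, hm, he, hinj⟩ := exists_hull G
  haveI := hm
  haveI := finiteType_of_injective m hinj
  haveI : IsAffine (HX (k := k) A).left := inferInstanceAs (IsAffine (Spec _))
  haveI hl : LocallyOfFiniteType (HX (k := k) A).hom := by
    show LocallyOfFiniteType (Spec.map (CommRingCat.ofHom (algebraMap k A)))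
    rw [HasRingHomProperty.Spec_iff (P := @LocallyOfFiniteType), CommRingCat.hom_ofHom, RingHom.finiteType_algebraMap]
    infer_instance
  obtain ⟨hs, hf⟩ := surjective_flat_of_injective_appTop m hinj
  haveI : IsIso e.hom.left := ((Over.forget _).mapIso e).isIso_hom
  rw [← he, Over.comp_left]
  exact ⟨inferInstance, inferInstance⟩

/-- The kernel of the affinization has only constant functions. -/
theorem exists_antiAffine_kernel [QuasiSeparated G.hom] :
    ∃ (_ : GrpObj (pullback (AffGrp19.toAff G) η[AffGrp19.aff G])),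
      LocallyOfFiniteType (pullback (AffGrp19.toAff G) η[AffGrp19.aff G]).hom ∧
      QuasiCompact (pullback (AffGrp19.toAff G) η[AffGrp19.aff G]).hom ∧
      Function.Bijective (AffGrp19.structRing (pullback (AffGrp19.toAff G) η[AffGrp19.aff G])).hom := by
  set p := AffGrp19.toAff G with hp
  set N := pullback p η[AffGrp19.aff G]
  set i : N ⟶ G := pullback.fst p η[AffGrp19.aff G]
  have hone : ∀ {T : Over (Spec (CommRingCat.of k))}, (1 : T ⟶ AffGrp19.aff G) = toUnit T ≫ η[AffGrp19.aff G] :=
    fun {T} => Hom.one_def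
  have hi : i ≫ p = 1 := by
    rw [hone, pullback.condition]
    congr 1
    exact toUnit_unique _ _
  have hlift : ∀ {T : Over (Spec (CommRingCat.of k))} (g : T ⟶ G), g ≫ p = 1 → ∃ n : T ⟶ N, n ≫ i = g :=
    fun g hg => ⟨pullback.lift g (toUnit _) (hg.trans hone), pullback.lift_fst _ _ _⟩
  obtain ⟨m, hm⟩ := hlift ((fst N N ≫ i) * (snd N N ≫ i))
    (by rw [MonObj.mul_comp, Category.assoc, Category.assoc, hi, MonObj.comp_one, MonObj.comp_one, _root_.one_mul])
  obtain ⟨e, he⟩ := hlift (1 : 𝟙_ (Over (Spec (CommRingCat.of k))) ⟶ G) (MonObj.one_comp p)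
  obtain ⟨v, hv⟩ := hlift i⁻¹ (by rw [GrpObj.inv_comp, hi, inv_one])
  haveI : IsClosedImmersion η[AffGrp19.aff G].left :=
    isClosedImmersion_of_comp_eq_id (AffGrp19.aff G).hom _ (Over.w η[AffGrp19.aff G])
  haveI hci : IsClosedImmersion i.left :=
    MorphismProperty.of_isPullback ((IsPullback.of_hasPullback p η[AffGrp19.aff G]).map (Over.forget _)).flip
      ‹IsClosedImmersion η[AffGrp19.aff G].left›
  haveI : Mono i := Over.mono_of_mono_left i
  letI : GrpObj N := SubGrp13.grpObjOfMono i hm he hv
  haveI : LocallyOfFiniteType N.hom := by rw [← Over.w i]; infer_instance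
  haveI : QuasiCompact N.hom := by rw [← Over.w i]; infer_instance
  refine ⟨inferInstance, inferInstance, inferInstance, ?_, ?_⟩
  · haveI : Nonempty N.left := ⟨η[N].left (IsLocalRing.closedPoint k)⟩
    haveI : Nonempty (⊤ : N.left.Opens) := ⟨⟨Classical.arbitrary _, trivial⟩⟩
    haveI : Nontrivial Γ(N.left, ⊤) := inferInstance
    exact (AffGrp19.structRing N).hom.injective
  -- functions of the product with the kernel come from the group
  obtain ⟨hs, hf⟩ := surjective_flat_toAff G
  haveI := hs; haveI := hf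
  let m' : G ⊗ N ⟶ G := fst G N * (snd G N ≫ i)
  have sq : IsPullback m' (fst G N) p p := by
    refine ⟨⟨?_⟩, ⟨PullbackCone.IsLimit.mk _
      (fun c => lift c.snd (hlift (c.snd⁻¹ * c.fst) (by rw [MonObj.mul_comp, GrpObj.inv_comp, c.condition, inv_mul_cancel])).choose)
      (fun c => ?_) (fun c => lift_fst _ _) (fun c n h1 h2 => ?_)⟩⟩
    · simp only [m', MonObj.mul_comp, Category.assoc, hi, MonObj.comp_one, _root_.mul_one]
    · simp only [m', MonObj.comp_mul, lift_fst, lift_snd_assoc]
      rw [(hlift (c.snd⁻¹ * c.fst) (by rw [MonObj.mul_comp, GrpObj.inv_comp, c.condition, inv_mul_cancel])).choose_spec,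
        mul_inv_cancel_left]
    · apply CartesianMonoidalCategory.hom_ext
      · rw [lift_fst, h2]
      · rw [lift_snd, ← cancel_mono i,
          (hlift (c.snd⁻¹ * c.fst) (by rw [MonObj.mul_comp, GrpObj.inv_comp, c.condition, inv_mul_cancel])).choose_spec,
          Category.assoc, eq_inv_mul_iff_mul_eq, ← h1]
        simp only [m', MonObj.comp_mul, h2]
  haveI : QuasiCompact ((Over.forget (Spec (CommRingCat.of k))).map p) := (AffGrp19.good_toAff G).qc
  haveI : QuasiSeparated ((Over.forget (Spec (CommRingCat.of k))).map p) := (AffGrp19.good_toAff G).qs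
  haveI : Flat ((Over.forget (Spec (CommRingCat.of k))).map p) := hf
  have hbij := Blanchard19.bijective_app_of_isPullback (sq.map (Over.forget _)) (AffGrp19.good_toAff G).bij ⊤
  intro s
  obtain ⟨r, hr⟩ := hbij.2 ((snd G N).left.appTop s)
  let σ : N ⟶ G ⊗ N := lift (toUnit N ≫ η[G]) (𝟙 N)
  have e1 : σ.left.appTop ((snd G N).left.appTop s) = s := by
    rw [← CommRingCat.comp_apply, ← Scheme.Hom.comp_appTop, ← Over.comp_left, lift_snd]
    simp
  have e2 : σ.left.appTop ((fst G N).left.appTop r) = N.hom.appTop (η[G].left.appTop r) := by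
    rw [← CommRingCat.comp_apply, ← Scheme.Hom.comp_appTop, ← Over.comp_left, lift_fst, Over.comp_left,
      Scheme.Hom.comp_appTop, CommRingCat.comp_apply]
    rfl
  refine ⟨(Scheme.ΓSpecIso (CommRingCat.of k)).hom (η[G].left.appTop r), ?_⟩
  show N.hom.appTop ((Scheme.ΓSpecIso (CommRingCat.of k)).inv ((Scheme.ΓSpecIso (CommRingCat.of k)).hom (η[G].left.appTop r))) = s
  rw [← e1, ← hr]
  refine Eq.trans ?_ e2.symm
  congr 1
  exact ConcreteCategory.congr_hom (Scheme.ΓSpecIso (CommRingCat.of k)).hom_inv_id _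

end Groth.Agent.AntiAff20
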