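import Groth.Agent.Lib.AntiAff20.Flat
import Groth.Agent.Lib.AffGrp19.Basic
import Groth.Agent.Lib.HopfPts19.Scheme
import Groth.Agent.Lib.HopfFlat20.Fg
import Groth.Agent.Lib.FinGrp20.Basic
import Groth.Agent.Lib.SecDiv18.Peel
import Groth.Agent.S3036

/-!
# The affine hull of an algebraic group is of finite type and the group is flat over it
-/

universe u

set_option autoImplicit false
set_option linter.style.haveILetI false
set_option backward.isDefEq.respectTransparency.types false

open CategoryTheory CategoryTheory.Limits MonoidalCategory CartesianMonoidalCategory MonObj AlgebraicGeometry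
open Opposite

noncomputable section

namespace Groth.Agent.AntiAff20

variable {k : Type u} [Field k]

/-- The group scheme of a Hopf algebra. -/
abbrev HX (A : Type u) [CommRing A] [HopfAlgebra k A] : Over (Spec (CommRingCat.of k)) :=
  ((hopfSpec (CommRingCat.of k)).obj (op (CommHopfAlgCat.of k A))).X

theorem hx_appTop_surjective {A B : Type u} [CommRing A] [HopfAlgebra k A] [CommRing B] [HopfAlgebra k B]
    (φ : A →ₐc[k] B) [IsClosedImmersion ((hopfSpec (CommRingCat.of k)).map (CommHopfAlgCat.ofHom φ).op).hom.hom.left] :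
    Function.Surjective φ := by
  have e : ((hopfSpec (CommRingCat.of k)).map (CommHopfAlgCat.ofHom φ).op).hom.hom.left =
      Spec.map (CommRingCat.ofHom (RingHomClass.toRingHom φ)) := rfl
  haveI : IsClosedImmersion (Spec.map (CommRingCat.ofHom (RingHomClass.toRingHom φ))) := e ▸ ‹_›
  have h : Function.Surjective (Spec.map (CommRingCat.ofHom (RingHomClass.toRingHom φ))).appTop :=
    (Spec.map (CommRingCat.ofHom (RingHomClass.toRingHom φ))).app_surjective ⊤ (isAffineOpen_top _)
  intro b
  obtain ⟨a', ha'⟩ := h ((Scheme.ΓSpecIso (CommRingCat.of B)).inv b)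
  obtain ⟨a, rfl⟩ := (ConcreteCategory.bijective_of_isIso (Scheme.ΓSpecIso (CommRingCat.of A)).inv).2 a'
  refine ⟨a, (ConcreteCategory.bijective_of_isIso (Scheme.ΓSpecIso (CommRingCat.of B)).inv).1 ?_⟩
  rw [← ha', ← CommRingCat.comp_apply, ← Scheme.ΓSpecIso_inv_naturality]
  rfl

/-- `G` maps to the affine group of its ring of functions. -/
theorem exists_hull (G : Over (Spec (CommRingCat.of k))) [GrpObj G] [LocallyOfFiniteType G.hom]
    [QuasiCompact G.hom] :
    ∃ (A : Type u) (_ : CommRing A) (_ : HopfAlgebra k A) (e : HX (k := k) A ≅ AffGrp19.aff G)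
      (m : G ⟶ HX A), IsMonHom m ∧ m ≫ e.hom = AffGrp19.toAff G ∧ Function.Injective m.left.appTop := by
  haveI : QuasiSeparated G.hom := AlgGrpBasic19.quasiSeparatedSpace
  obtain ⟨A, cA, hA, ⟨e⟩⟩ := HopfPts19.exists_model (AffGrp19.aff G)
  let e' : HX (k := k) A ≅ AffGrp19.aff G := (Grp.forget _).mapIso e
  haveI : IsMonHom e.inv.hom.hom := e.inv.hom.isMonHom_hom
  refine ⟨A, cA, hA, e', AffGrp19.toAff G ≫ e'.inv, ?_, by simp, ?_⟩
  · haveI : IsMonHom e'.inv := e.inv.hom.isMonHom_hom
    infer_instance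
  · have h1 : Function.Injective (AffGrp19.toAff G).left.appTop := ((AffGrp19.good_toAff G).bij ⊤).1
    rw [Over.comp_left, Scheme.Hom.comp_appTop]
    haveI : IsIso e'.inv.left := ((Over.forget _).mapIso e').isIso_inv
    haveI : IsIso e'.inv.left.appTop := inferInstanceAs (IsIso (e'.inv.left.app ⊤))
    exact h1.comp (ConcreteCategory.bijective_of_isIso e'.inv.left.appTop).1

/-- The Hopf algebra of functions of an algebraic group is finitely generated. -/
theorem finiteType_of_injective {G : Over (Spec (CommRingCat.of k))} [GrpObj G] [LocallyOfFiniteType G.hom]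
    [QuasiCompact G.hom] {A : Type u} [CommRing A] [HopfAlgebra k A] (m : G ⟶ HX A) [IsMonHom m]
    (hm : Function.Injective m.left.appTop) : Algebra.FiniteType k A := by
  classical
  haveI : IsNoetherianRing (CommRingCat.of k) := inferInstanceAs (IsNoetherianRing k)
  haveI : IsLocallyNoetherian G.left := LocallyOfFiniteType.isLocallyNoetherian G.hom
  haveI : CompactSpace G.left := QuasiCompact.compactSpace_of_compactSpace G.hom
  haveI : IsNoetherian G.left := {}
  -- homomorphisms to the groups of finitely generated Hopf subalgebras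
  have hdata : ∀ T : Subalgebra k A, HopfFlat.IsSub T → T.FG →
      ∃ (B : Type u) (_ : CommRing B) (_ : HopfAlgebra k B) (φ : B →ₐc[k] A),
        Algebra.FiniteType k B ∧ Function.Injective φ ∧ Set.range φ = (T : Set A) := by
    intro T hT hfg
    obtain ⟨B, cB, hB, e, he1, he2⟩ := FinGrp.exists_hopf_sub T hT.comul_mem hT.antipode_mem
    haveI : Algebra.FiniteType k T := (Subalgebra.fg_iff_finiteType T).1 hfg
    refine ⟨B, cB, hB, BialgHom.ofAlgHom (T.val.comp e.toAlgHom) ?_ ?_,
      Algebra.FiniteType.equiv ‹_› e.symm, fun a b h => e.injective (Subtype.ext h), ?_⟩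
    · exact AlgHom.ext fun b => (he1 b).symm
    · exact AlgHom.ext fun b => he2 b
    · ext a
      exact ⟨fun ⟨b, hb⟩ => hb ▸ (e b).2, fun ha => ⟨e.symm ⟨a, ha⟩, by
        show (e (e.symm ⟨a, ha⟩) : A) = a
        rw [e.apply_symm_apply]⟩⟩
  let F : ∀ (B : Type u) [CommRing B] [HopfAlgebra k B], (B →ₐc[k] A) → (G ⟶ HX B) := fun B _ _ φ =>
    m ≫ ((hopfSpec (CommRingCat.of k)).map (CommHopfAlgCat.ofHom φ).op).hom.hom
  have hFhom : ∀ (B : Type u) [CommRing B] [HopfAlgebra k B] (φ : B →ₐc[k] A), IsMonHom (F B φ) := by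
    intro B _ _ φ
    haveI := ((hopfSpec (CommRingCat.of k)).map (CommHopfAlgCat.ofHom φ).op).hom.isMonHom_hom
    exact inferInstanceAs (IsMonHom (_ ≫ _))
  let K : ∀ (B : Type u) [CommRing B] [HopfAlgebra k B], (B →ₐc[k] A) → G.left.IdealSheafData :=
    fun B _ _ φ => (pullback.fst (F B φ) η[HX B]).left.ker
  -- a maximal kernel
  let 𝒮 : Set G.left.IdealSheafData := {I | ∃ (B : Type u) (_ : CommRing B) (_ : HopfAlgebra k B)
    (φ : B →ₐc[k] A), Algebra.FiniteType k B ∧ Function.Injective φ ∧ K B φ = I}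
  have hne : 𝒮.Nonempty := by
    obtain ⟨T, hT, hfg, -⟩ := HopfFlat.exists_fg_isSub (k := k) (∅ : Finset A)
    obtain ⟨B, cB, hB, φ, h1, h2, -⟩ := hdata T hT hfg
    exact ⟨_, B, cB, hB, φ, h1, h2, rfl⟩
  obtain ⟨I₀, ⟨B₀, cB₀, hB₀, φ₀, hft₀, hinj₀, hI₀⟩, hmax⟩ :=
    (SecDiv.wellFoundedGT (X := G.left)).wf.has_min 𝒮 hne
  suffices hsurj : Function.Surjective φ₀ from Algebra.FiniteType.of_surjective φ₀.toAlgHom hsurj
  intro x
  obtain ⟨S₀, hS₀⟩ := hft₀
  obtain ⟨T, hT, hfg, hxT⟩ := HopfFlat.exists_fg_isSub (k := k) (insert x (S₀.image φ₀))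
  obtain ⟨B, cB, hB, φ, h1, h2, h3⟩ := hdata T hT hfg
  have hle : ∀ b, φ₀ b ∈ T := by
    intro b
    have : (⊤ : Subalgebra k B₀) ≤ T.comap φ₀.toAlgHom := by
      rw [← hS₀]
      exact Algebra.adjoin_le fun s hs => hxT (by
        simp only [Finset.coe_insert, Finset.coe_image]
        exact Or.inr ⟨s, hs, rfl⟩)
    exact this trivial
  have hlift : ∀ b, ∃ c, φ c = φ₀ b := fun b => by
    have : φ₀ b ∈ Set.range φ := h3 ▸ hle b
    exact this
  choose ψf hψ using hlift
  let ψa : B₀ →ₐ[k] B :=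
    { toFun := ψf
      map_one' := h2 (by rw [hψ, map_one, map_one])
      map_mul' := fun a b => h2 (by rw [hψ, map_mul, map_mul, hψ, hψ])
      map_zero' := h2 (by rw [hψ, map_zero, map_zero])
      map_add' := fun a b => h2 (by rw [hψ, map_add, map_add, hψ, hψ])
      commutes' := fun r => h2 (by rw [hψ, AlgHomClass.commutes, AlgHomClass.commutes]) }
  have hcomp : φ.toAlgHom.comp ψa = φ₀.toAlgHom := AlgHom.ext hψ
  let ψ : B₀ →ₐc[k] B := BialgHom.ofAlgHom ψa
    (by
      refine AlgHom.ext fun b => ?_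
      show Coalgebra.counit (R := k) (ψf b) = _
      rw [← CoalgHomClass.counit_comp_apply φ (ψf b), hψ, CoalgHomClass.counit_comp_apply φ₀]
      rfl)
    (by
      refine AlgHom.ext fun b => ?_
      apply TensorProduct.map_injective_of_flat_flat φ.toAlgHom.toLinearMap φ.toAlgHom.toLinearMap h2 h2
      show (Algebra.TensorProduct.map φ.toAlgHom φ.toAlgHom).comp (Algebra.TensorProduct.map ψa ψa)
          (Coalgebra.comul (R := k) b) =
        Algebra.TensorProduct.map φ.toAlgHom φ.toAlgHom (Coalgebra.comul (R := k) (ψf b))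
      rw [← Algebra.TensorProduct.map_comp, hcomp]
      exact (CoalgHomClass.map_comp_comul_apply φ₀ b).trans ((congrArg _ (hψ b).symm).trans (CoalgHomClass.map_comp_comul_apply φ (ψf b)).symm))
  let j : HX (k := k) B ⟶ HX B₀ := ((hopfSpec (CommRingCat.of k)).map (CommHopfAlgCat.ofHom ψ).op).hom.hom
  haveI : IsMonHom j := ((hopfSpec (CommRingCat.of k)).map (CommHopfAlgCat.ofHom ψ).op).hom.isMonHom_hom
  have hψ' : φ.comp ψ = φ₀ := BialgHom.ext hψ
  have hj : F B φ ≫ j = F B₀ φ₀ := by
    simp only [F, j, Category.assoc, ← Mon.comp_hom', ← Grp.comp', ← Functor.map_comp, ← op_comp, ← hψ']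
    rfl
  haveI := hFhom B φ
  haveI := hFhom B₀ φ₀
  haveI : LocallyOfFiniteType (HX (k := k) B).hom := by
    show LocallyOfFiniteType (Spec.map (CommRingCat.ofHom (algebraMap k B)))
    rw [HasRingHomProperty.Spec_iff (P := @LocallyOfFiniteType), CommRingCat.hom_ofHom, RingHom.finiteType_algebraMap]
    exact h1
  haveI : LocallyOfFiniteType (HX (k := k) B₀).hom := by
    show LocallyOfFiniteType (Spec.map (CommRingCat.ofHom (algebraMap k B₀)))
    rw [HasRingHomProperty.Spec_iff (P := @LocallyOfFiniteType), CommRingCat.hom_ofHom, RingHom.finiteType_algebraMap]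
    exact ⟨S₀, hS₀⟩
  haveI : IsAffine (HX (k := k) B).left := inferInstanceAs (IsAffine (Spec _))
  haveI : IsAffine (HX (k := k) B₀).left := inferInstanceAs (IsAffine (Spec _))
  -- the homomorphism to the larger group is faithfully flat
  obtain ⟨hfs, hff⟩ := surjective_flat_of_injective_appTop (F B φ) (by
    rw [Over.comp_left, Scheme.Hom.comp_appTop]
    refine hm.comp ?_
    show Function.Injective (Spec.map (CommRingCat.ofHom (RingHomClass.toRingHom φ))).appTop
    intro a b hab
    obtain ⟨a, rfl⟩ := (ConcreteCategory.bijective_of_isIso (Scheme.ΓSpecIso (CommRingCat.of B)).inv).2 a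
    obtain ⟨b, rfl⟩ := (ConcreteCategory.bijective_of_isIso (Scheme.ΓSpecIso (CommRingCat.of B)).inv).2 b
    have hn := fun v => ConcreteCategory.congr_hom (Scheme.ΓSpecIso_inv_naturality (CommRingCat.ofHom (RingHomClass.toRingHom φ))) v
    have hab' := ((hn a).trans hab).trans (hn b).symm
    exact congrArg _ (h2 ((ConcreteCategory.bijective_of_isIso (Scheme.ΓSpecIso (CommRingCat.of A)).inv).1 hab')))
  -- equal kernels
  have hci : ∀ (C : Type u) [CommRing C] [HopfAlgebra k C] (χ : C →ₐc[k] A),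
      IsClosedImmersion (pullback.fst (F C χ) η[HX C]).left := by
    intro C _ _ χ
    haveI : IsAffine (HX (k := k) C).left := inferInstanceAs (IsAffine (Spec _))
    haveI : IsClosedImmersion η[HX (k := k) C].left := isClosedImmersion_of_comp_eq_id (HX (k := k) C).hom _ (Over.w η[HX (k := k) C])
    exact MorphismProperty.of_isPullback ((IsPullback.of_hasPullback (F C χ) η[HX C]).map (Over.forget _)).flip
      (inferInstance : IsClosedImmersion η[HX (k := k) C].left)
  let i : pullback (F B φ) η[HX B] ⟶ pullback (F B₀ φ₀) η[HX B₀] :=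
    pullback.lift (pullback.fst _ _) (pullback.snd _ _) (by
      rw [← hj, pullback.condition_assoc, IsMonHom.one_hom])
  have hKle : K B₀ φ₀ ≤ K B φ := by
    show (pullback.fst (F B₀ φ₀) η[HX B₀]).left.ker ≤ (pullback.fst (F B φ) η[HX B]).left.ker
    rw [show pullback.fst (F B φ) η[HX B] = i ≫ pullback.fst (F B₀ φ₀) η[HX B₀] from (pullback.lift_fst _ _ _).symm,
      Over.comp_left]
    exact Scheme.Hom.le_ker_comp _ _
  have hKeq : K B φ ≤ K B₀ φ₀ := by
    have := hmax (K B φ) ⟨B, cB, hB, φ, h1, h2, rfl⟩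
    rw [← hI₀] at this
    exact (eq_of_le_of_not_lt hKle fun h => this h).symm.le
  have hker : ∀ {Z : Over (Spec (CommRingCat.of k))} (z : Z ⟶ G), z ≫ F B₀ φ₀ = 1 → z ≫ F B φ = 1 := by
    intro Z z hz
    haveI := hci B φ
    haveI := hci B₀ φ₀
    have h1z : z ≫ F B₀ φ₀ = toUnit Z ≫ η[HX B₀] := by rw [hz, Hom.one_def]
    let l := IsClosedImmersion.lift (pullback.fst (F B φ) η[HX B]).left
      (pullback.fst (F B₀ φ₀) η[HX B₀]).left hKeq
    have hl : l ≫ (pullback.fst (F B φ) η[HX B]).left = (pullback.fst (F B₀ φ₀) η[HX B₀]).left :=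
      IsClosedImmersion.lift_fac _ _ _
    let lO : pullback (F B₀ φ₀) η[HX B₀] ⟶ pullback (F B φ) η[HX B] :=
      Over.homMk l (by rw [← Over.w (pullback.fst (F B φ) η[HX B]), reassoc_of% hl, Over.w])
    have hlO : lO ≫ pullback.fst (F B φ) η[HX B] = pullback.fst (F B₀ φ₀) η[HX B₀] := Over.OverMorphism.ext hl
    rw [← pullback.lift_fst z (toUnit Z) h1z, ← hlO, Category.assoc, Category.assoc, pullback.condition,
      ← Category.assoc lO, ← Category.assoc, Hom.one_def]
    congr 1
    exact toUnit_unique _ _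
  have hkerj : ∀ {Z : Over (Spec (CommRingCat.of k))} (h : Z ⟶ HX B), h ≫ j = 1 → h = 1 := by
    intro Z h hh
    let P : Over (Spec (CommRingCat.of k)) := Over.mk (Limits.pullback.fst h.left (F B φ).left ≫ Z.hom)
    let pZ : P ⟶ Z := Over.homMk (Limits.pullback.fst h.left (F B φ).left) rfl
    let pG : P ⟶ G := Over.homMk (Limits.pullback.snd h.left (F B φ).left) (by
      show _ ≫ G.hom = _ ≫ Z.hom
      rw [← Over.w (F B φ), ← Limits.pullback.condition_assoc, Over.w h])
    have hP : pZ ≫ h = pG ≫ F B φ := Over.OverMorphism.ext Limits.pullback.condition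
    have h1 : pG ≫ F B₀ φ₀ = 1 := by
      rw [← hj, reassoc_of% hP.symm, hh, MonObj.comp_one]
    haveI : Flat pZ.left := inferInstanceAs (Flat (Limits.pullback.fst _ _))
    haveI : Surjective pZ.left := inferInstanceAs (Surjective (Limits.pullback.fst _ _))
    haveI : Epi pZ.left := Flat.epi_of_flat_of_surjective _
    haveI : Epi pZ := Over.epi_of_epi_left pZ
    rw [← cancel_epi pZ, hP, hker pG h1, MonObj.comp_one]
  haveI : Mono j := ⟨fun {Z} a b hab => by
    have : (a * b⁻¹) ≫ j = 1 := by rw [MonObj.mul_comp, GrpObj.inv_comp, hab, mul_inv_cancel]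
    exact mul_inv_eq_one.1 (hkerj _ this)⟩
  haveI : QuasiCompact j.left := inferInstance
  haveI : IsClosedImmersion ((hopfSpec (CommRingCat.of k)).map (CommHopfAlgCat.ofHom ψ).op).hom.hom.left :=
    S3036.result k (HX B) (HX B₀) j
  obtain ⟨c, hc⟩ : ∃ c, φ c = x := by
    have : x ∈ Set.range φ := h3 ▸ hxT (by simp)
    exact this
  obtain ⟨b, rfl⟩ := hx_appTop_surjective ψ c
  exact ⟨b, (hψ b).symm.trans hc⟩

end Groth.Agent.AntiAff20
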